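import Groth.Agent.H02CA.Tori.Split
import Mathlib.LinearAlgebra.Matrix.ToLin
import Mathlib.LinearAlgebra.Matrix.GeneralLinearGroup.Defs

/-!
The Galois action on the characters of a torus, and rational points as equivariant homomorphisms.
-/

set_option autoImplicit false
set_option linter.style.haveILetI false
set_option backward.isDefEq.respectTransparency false

universe u

open TensorProduct Coalgebra

namespace Groth.Agent.H02CA.Tori

open Groth.Agent.H19Mult

variable {K : Type u} [Field K] {A : Type u} [CommRing A] [HopfAlgebra K A] {n : ℕ} (P : GalSplit K A n)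

namespace GalSplit

/-- The lattice of characters. -/
abbrev Chr (n : ℕ) : Type := Multiplicative (Fin n → ℤ)

/-- The group-like element of a character. -/
noncomputable def gl (m : Chr n) : P.L ⊗[K] A := P.chart.symm (MonoidAlgebra.single m 1)

theorem isGroupLike_gl (m : Chr n) : IsGroupLikeElem P.L (P.gl m) :=
  (MonoidAlgebra.isGroupLikeElem_single_one m).map P.chart.symm

theorem chart_gl (m : Chr n) : P.chart (P.gl m) = MonoidAlgebra.single m 1 :=
  P.chart.apply_symm_apply _

theorem gl_mul (m m' : Chr n) : P.gl (m * m') = P.gl m * P.gl m' := by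
  rw [gl, gl, gl, ← map_mul, MonoidAlgebra.single_mul_single, mul_one]

theorem gl_one : P.gl 1 = 1 := by
  rw [gl, ← MonoidAlgebra.one_def, map_one]

theorem gl_injective : Function.Injective P.gl := fun m m' h => by
  have := congrArg P.chart h
  rw [chart_gl, chart_gl] at this
  exact MonoidAlgebra.single_left_injective one_ne_zero this

theorem exists_gl {z : P.L ⊗[K] A} (hz : IsGroupLikeElem P.L z) : ∃ m, P.gl m = z := by
  obtain ⟨m, hm⟩ := MonoidAlgebra.isGroupLikeElem_iff_mem_range_single_one.1 (hz.map P.chart)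
  exact ⟨m, by rw [gl]; exact (congrArg P.chart.symm hm).trans (P.chart.symm_apply_apply z)⟩

/-- Group-like elements span. -/
theorem induction {p : P.L ⊗[K] A → Prop} (h0 : p 0) (hadd : ∀ x y, p x → p y → p (x + y))
    (hs : ∀ (t : P.L) (m : Chr n), p (t • P.gl m)) (z : P.L ⊗[K] A) : p z := by
  rw [← P.chart.symm_apply_apply z]
  induction P.chart z using MonoidAlgebra.induction_linear with
  | zero => rw [map_zero]; exact h0
  | add x y hx hy => rw [map_add]; exact hadd _ _ hx hy
  | single m t =>
    rw [show MonoidAlgebra.single m t = t • MonoidAlgebra.single m (1 : P.L) by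
      rw [MonoidAlgebra.smul_single, smul_eq_mul, mul_one], map_smul]
    exact hs t m

section Galois

variable (σ τ : P.L ≃ₐ[K] P.L)

/-- The semilinear action on `L ⊗ A`. -/
noncomputable abbrev act : P.L ⊗[K] A →ₐ[K] P.L ⊗[K] A := mapA (A := A) σ.toAlgHom

theorem act_smul (t : P.L) (z : P.L ⊗[K] A) : P.act σ (t • z) = σ t • P.act σ z := by
  induction z using TensorProduct.induction_on with
  | zero => simp
  | tmul a b => simp [act, smul_tmul', smul_eq_mul]
  | add x y hx hy => simp only [smul_add, map_add, hx, hy]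

theorem isGroupLike_act (m : Chr n) : IsGroupLikeElem P.L (P.act σ (P.gl m)) :=
  (isGL_iff _).1 (IsGL.map σ.toAlgHom ((isGL_iff _).2 (P.isGroupLike_gl m)))

/-- The action on characters. -/
noncomputable def perm (m : Chr n) : Chr n := (P.exists_gl (P.isGroupLike_act σ m)).choose

theorem gl_perm (m : Chr n) : P.gl (P.perm σ m) = P.act σ (P.gl m) :=
  (P.exists_gl (P.isGroupLike_act σ m)).choose_spec

/-- The action on characters, additively. -/
noncomputable def lin : (Fin n → ℤ) →ₗ[ℤ] (Fin n → ℤ) :=
  (AddMonoidHom.mk' (fun v => (P.perm σ (Multiplicative.ofAdd v)).toAdd) fun v w => by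
    apply Multiplicative.ofAdd.injective
    apply P.gl_injective
    rw [ofAdd_add, ofAdd_add, ofAdd_toAdd, ofAdd_toAdd, ofAdd_toAdd, gl_mul, gl_perm, gl_perm, gl_perm, gl_mul,
      map_mul]).toIntLinearMap

theorem gl_lin (v : Fin n → ℤ) :
    P.gl (Multiplicative.ofAdd (P.lin σ v)) = P.act σ (P.gl (Multiplicative.ofAdd v)) := by
  rw [← gl_perm]; rfl

/-- The action, as a representation by matrices. -/
noncomputable def mat : (P.L ≃ₐ[K] P.L) →* Matrix (Fin n) (Fin n) ℤ where
  toFun σ := LinearMap.toMatrix' (P.lin σ)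
  map_one' := by
    have : P.lin 1 = 1 := LinearMap.ext fun v => by
      apply Multiplicative.ofAdd.injective
      apply P.gl_injective
      rw [gl_lin]
      change _ = P.gl _
      have h : (P.act (1 : P.L ≃ₐ[K] P.L)) = AlgHom.id K _ :=
        Algebra.TensorProduct.ext' fun a b => rfl
      rw [h]; rfl
    rw [this]
    exact LinearMap.toMatrix'_one
  map_mul' σ τ := by
    have : P.lin (σ * τ) = P.lin σ * P.lin τ := LinearMap.ext fun v => by
      apply Multiplicative.ofAdd.injective
      apply P.gl_injective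
      rw [gl_lin, Module.End.mul_apply, gl_lin, gl_lin, mapA_mapA]
      rfl
    rw [this]
    exact LinearMap.toMatrix'_mul _ _

/-- The action, in `GL_n(ℤ)`. -/
noncomputable def rep : (P.L ≃ₐ[K] P.L) →* Matrix.GeneralLinearGroup (Fin n) ℤ := P.mat.toHomUnits

/-- The image of the Galois group. -/
noncomputable def image : Subgroup (Matrix.GeneralLinearGroup (Fin n) ℤ) := P.rep.range

instance finite_image : Finite P.image := Finite.of_surjective _ P.rep.rangeRestrict_surjective

theorem exists_of_mem_image (g : P.image) : ∃ σ, ∀ v, (g.1.1 : Matrix (Fin n) (Fin n) ℤ).mulVec v = P.lin σ v := by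
  obtain ⟨σ, hσ⟩ := g.2
  refine ⟨σ, fun v => ?_⟩
  rw [← hσ]
  exact LinearMap.congr_fun (Matrix.toLin'_toMatrix' (P.lin σ)) v

theorem lin_eq_mulVec (σ : P.L ≃ₐ[K] P.L) (v : Fin n → ℤ) :
    P.lin σ v = ((P.rep σ).1 : Matrix (Fin n) (Fin n) ℤ).mulVec v :=
  (LinearMap.congr_fun (Matrix.toLin'_toMatrix' (P.lin σ)) v).symm

end Galois

section Eval

/-- Evaluation at a rational point. -/
noncomputable def ev (φ : A →ₐ[K] K) : P.L ⊗[K] A →ₐ[P.L] P.L :=
  Algebra.TensorProduct.lift (Algebra.ofId P.L P.L) ((Algebra.ofId K P.L).comp φ) fun _ _ => Commute.all _ _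

theorem ev_tmul (φ : A →ₐ[K] K) (t : P.L) (a : A) : P.ev φ (t ⊗ₜ a) = t * algebraMap K P.L (φ a) := by
  simp [ev]

theorem ev_act (φ : A →ₐ[K] K) (σ : P.L ≃ₐ[K] P.L) (z : P.L ⊗[K] A) : P.ev φ (P.act σ z) = σ (P.ev φ z) := by
  induction z using TensorProduct.induction_on with
  | zero => simp
  | tmul t a => simp [act, ev_tmul]
  | add x y hx hy => simp only [map_add, hx, hy]

theorem ev_mul (φ φ' : WithConv (A →ₐ[K] K)) (z : P.L ⊗[K] A) :
    P.ev (φ * φ').ofConv z =
      Algebra.TensorProduct.lmul' P.L
        (Algebra.TensorProduct.map (P.ev φ.ofConv) (P.ev φ'.ofConv) (comul (R := P.L) z)) := by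
  induction z using TensorProduct.induction_on with
  | zero => simp
  | add x y hx hy => simp only [map_add, hx, hy]
  | tmul t a =>
    rw [ev_tmul]
    change t * algebraMap K P.L ((φ * φ') a) = _
    rw [AlgHom.convMul_apply]
    simp only [TensorProduct.comul_tmul, CommSemiring.comul_apply]
    generalize Coalgebra.comul (R := K) a = w
    induction w using TensorProduct.induction_on with
    | zero => simp
    | tmul p q => simp [ev_tmul, mul_assoc, mul_left_comm]
    | add v w hv hw => simp only [TensorProduct.tmul_add, map_add, mul_add, hv, hw]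

theorem ev_one (z : P.L ⊗[K] A) : P.ev (1 : WithConv (A →ₐ[K] K)).ofConv z = counit (R := P.L) z := by
  induction z using TensorProduct.induction_on with
  | zero => simp
  | add x y hx hy => simp only [map_add, hx, hy]
  | tmul t a => simp [ev_tmul, AlgHom.convOne_apply, Algebra.smul_def, mul_comm]

/-- The character values of a rational point. -/
noncomputable def val : WithConv (A →ₐ[K] K) →* (Chr n →* P.L) where
  toFun φ :=
    { toFun := fun m => P.ev φ.ofConv (P.gl m)
      map_one' := by rw [gl_one, map_one]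
      map_mul' := fun m m' => by rw [gl_mul, map_mul] }
  map_one' := MonoidHom.ext fun m => by
    change P.ev _ (P.gl m) = 1
    rw [ev_one]
    exact (P.isGroupLike_gl m).counit_eq_one
  map_mul' φ φ' := MonoidHom.ext fun m => by
    change P.ev _ (P.gl m) = P.ev _ (P.gl m) * P.ev _ (P.gl m)
    rw [ev_mul, (P.isGroupLike_gl m).comul_eq_tmul_self]
    simp

theorem val_apply (φ : WithConv (A →ₐ[K] K)) (m : Chr n) : P.val φ m = P.ev φ.ofConv (P.gl m) := rfl

theorem val_injective : Function.Injective P.val := fun φ φ' h => by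
  have key : ∀ z, P.ev φ.ofConv z = P.ev φ'.ofConv z := fun z => by
    induction z using P.induction with
    | h0 => simp
    | hadd x y hx hy => simp only [map_add, hx, hy]
    | hs t m => rw [map_smul, map_smul, ← val_apply, ← val_apply, h]
  apply WithConv.ofConv_injective
  refine AlgHom.ext fun a => (algebraMap K P.L).injective ?_
  simpa [ev_tmul] using key (1 ⊗ₜ a)

theorem val_lin (φ : WithConv (A →ₐ[K] K)) (σ : P.L ≃ₐ[K] P.L) (v : Fin n → ℤ) :
    P.val φ (Multiplicative.ofAdd (P.lin σ v)) = σ (P.val φ (Multiplicative.ofAdd v)) := by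
  rw [val_apply, val_apply, gl_lin, ev_act]

end Eval

end GalSplit

end Groth.Agent.H02CA.Tori
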