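import Groth.Agent.H21Diag.Pres
import Groth.Agent.H21Diag.Diag
import Groth.Agent.H21Diag.SubgroupSplit
import Groth.Agent.H19Mult.SplitField
import Groth.Agent.H19Mult.BaseChange
import Groth.Agent.S0082
import Mathlib.FieldTheory.Galois.IsGaloisGroup
import Mathlib.FieldTheory.Normal.Closure

/-!
Tori over a field as Hopf algebras split by a finite Galois extension.
-/

set_option autoImplicit false
set_option linter.style.haveILetI false
set_option backward.isDefEq.respectTransparency false

universe u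

open CategoryTheory MonoidalCategory CartesianMonoidalCategory MonObj GrpObj AlgebraicGeometry
open TensorProduct

namespace Groth.Agent.H02CA.Tori

variable {K : Type u} [Field K]

theorem isAffine_of_split {n : ℕ} (T : Over (Spec (CommRingCat.of K))) [GrpObj T] {L : Type u} [Field L]
    [Algebra K L]
    (h : Red.IsSplitTorusWith (Fin n → ℤ) (Red.bc (Spec.map (CommRingCat.ofHom (algebraMap K L))) T)) :
    IsAffine T.left := by
  obtain ⟨e⟩ := h
  let g := Spec.map (CommRingCat.ofHom (algebraMap K L))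
  haveI := H21Diag.isAffineHom_DS (Spec (CommRingCat.of L)) (Fin n → ℤ)
  have h2 : IsAffineHom (Limits.pullback.snd T.hom g) := by
    have he : e.hom.hom.hom.left ≫ (Red.DS (Spec (CommRingCat.of L)) (Fin n → ℤ)).hom =
        Limits.pullback.snd T.hom g := Over.w e.hom.hom.hom
    haveI : IsIso e.hom.hom.hom := inferInstanceAs (IsIso ((Grp.forget _).map e.hom))
    haveI : IsIso e.hom.hom.hom.left := inferInstanceAs (IsIso ((Over.forget _).map e.hom.hom.hom))
    rw [← he]
    infer_instance
  haveI := Groth.Agent.S0082.result.{u}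
  haveI : Flat g := Flat.SpecMap_iff.mpr (RingHom.flat_algebraMap_iff.2 inferInstance)
  haveI : Surjective g := ⟨fun x => ⟨IsLocalRing.closedPoint L, Subsingleton.elim _ _⟩⟩
  have h1 : IsAffineHom T.hom :=
    MorphismProperty.of_pullback_snd_of_descendsAlong (P := @IsAffineHom)
      (Q := @Surjective ⊓ @Flat ⊓ @QuasiCompact) (g := g) ⟨⟨inferInstance, inferInstance⟩, inferInstance⟩ h2
  exact isAffine_of_isAffineHom T.hom

theorem exists_hopf (T : Over (Spec (CommRingCat.of K))) [GrpObj T] [IsAffine T.left] :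
    ∃ (A : Type u) (_ : CommRing A) (_ : HopfAlgebra K A)
      (e : (Spec (CommRingCat.of A)).asOver (Spec (CommRingCat.of K)) ≅ T), IsMonHom e.hom := by
  obtain ⟨X, ⟨i⟩⟩ := (essImage_hopfSpec (R := CommRingCat.of K) (G := Grp.mk T)).2 (inferInstanceAs (IsAffine T.left))
  exact ⟨X.unop, inferInstance, inferInstance,
    (Grp.forget _).mapIso i, i.hom.hom.isMonHom_hom⟩

section Points

variable {T : Over (Spec (CommRingCat.of K))} [GrpObj T] {A : Type u} [CommRing A] [HopfAlgebra K A]
  (e : (Spec (CommRingCat.of A)).asOver (Spec (CommRingCat.of K)) ≅ T) [IsMonHom e.hom]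

/-- Points with values in a `K`-algebra. -/
noncomputable def pts (D : Type u) [CommRing D] [Algebra K D] :
    WithConv (A →ₐ[K] D) ≃* ((Spec (CommRingCat.of D)).asOver (Spec (CommRingCat.of K)) ⟶ T) :=
  (Spec.mapMulEquiv (R := K) (S := A) (T := D)).trans
    { toFun := fun f => f ≫ e.hom
      invFun := fun f => f ≫ e.inv
      left_inv := fun f => by simp
      right_inv := fun f => by simp
      map_mul' := fun f g => MonObj.mul_comp f g e.hom }

theorem pts_left {D : Type u} [CommRing D] [Algebra K D] (φ : A →ₐ[K] D) :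
    (pts e D (WithConv.toConv φ)).left = Spec.map (CommRingCat.ofHom φ.toRingHom) ≫ e.hom.left := rfl

theorem pts_nat {D D' : Type u} [CommRing D] [Algebra K D] [CommRing D'] [Algebra K D'] (f : D →ₐ[K] D')
    (φ : A →ₐ[K] D) :
    (pts e D' (WithConv.toConv (f.comp φ))).left =
      Spec.map (CommRingCat.ofHom f.toRingHom) ≫ (pts e D (WithConv.toConv φ)).left := by
  rw [pts_left, pts_left, ← Category.assoc, ← Spec.map_comp]
  rfl

variable {L : Type u} [Field L] [Algebra K L] {M : Type} [AddCommGroup M]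
  (Q : H21Diag.Pres T (algebraMap K L) M)

section D

variable {D : Type u} [CommRing D] [Algebra K D] [Algebra L D] [IsScalarTower K L D]

/-- The point given by a character, as an algebra map. -/
noncomputable def pL (χ : Multiplicative M →* D) : WithConv (A →ₐ[K] D) :=
  (pts e D).symm ((Over.homMk (𝟙 _) (by
      change 𝟙 _ ≫ Spec.map (CommRingCat.ofHom ((algebraMap L D).comp (algebraMap K L))) =
        Spec.map (CommRingCat.ofHom (algebraMap K D))
      rw [Category.id_comp, IsScalarTower.algebraMap_eq K L D]) :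
    (Spec (CommRingCat.of D)).asOver (Spec (CommRingCat.of K)) ⟶
      H21Diag.Tst ((algebraMap L D).comp (algebraMap K L))) ≫ Q.pt (algebraMap L D) χ)

theorem pts_pL_left (χ : Multiplicative M →* D) :
    (pts e D (pL e Q χ)).left = (Q.pt (algebraMap L D) χ).left := by
  rw [pL, MulEquiv.apply_symm_apply]
  exact Category.id_comp _

theorem pL_mul (χ χ' : Multiplicative M →* D) : pL e Q (χ * χ') = pL e Q χ * pL e Q χ' := by
  rw [pL, Q.pt_mul, MonObj.comp_mul, map_mul]
  rfl

theorem pL_injective : Function.Injective (pL e Q (D := D)) := fun χ χ' h => by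
  refine Q.pt_injective (algebraMap L D) (Over.OverMorphism.ext ?_)
  exact (pts_pL_left e Q χ).symm.trans ((congrArg (fun φ => (pts e D φ).left) h).trans (pts_pL_left e Q χ'))

theorem pL_surjective : Function.Surjective (pL e Q (D := D)) := fun φ => by
  obtain ⟨χ, hχ⟩ := Q.pt_surjective (algebraMap L D) ((Over.homMk (𝟙 _) (by
      change 𝟙 _ ≫ Spec.map (CommRingCat.ofHom (algebraMap K D)) =
        Spec.map (CommRingCat.ofHom ((algebraMap L D).comp (algebraMap K L)))
      rw [Category.id_comp, IsScalarTower.algebraMap_eq K L D]) :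
    H21Diag.Tst ((algebraMap L D).comp (algebraMap K L)) ⟶
      (Spec (CommRingCat.of D)).asOver (Spec (CommRingCat.of K))) ≫ pts e D φ)
  refine ⟨χ, (pts e D).injective (Over.OverMorphism.ext ?_)⟩
  rw [pts_pL_left, hχ]
  exact Category.id_comp _

theorem pL_one : pL e Q (1 : Multiplicative M →* D) = 1 := by
  obtain ⟨y, hy⟩ := pL_surjective e Q (D := D) 1
  have h := pL_mul e Q (1 : Multiplicative M →* D) y
  rw [_root_.one_mul, hy, _root_.mul_one] at h
  exact h.symm

theorem pL_nat {D' : Type u} [CommRing D'] [Algebra K D'] [Algebra L D'] [IsScalarTower K L D']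
    (f : D →ₐ[L] D') (χ : Multiplicative M →* D) :
    (pL e Q (f.toRingHom.toMonoidHom.comp χ)).ofConv = (f.restrictScalars K).comp (pL e Q χ).ofConv := by
  refine WithConv.toConv_injective ((pts e D').injective (Over.OverMorphism.ext ?_))
  rw [pts_nat, WithConv.toConv_ofConv, WithConv.toConv_ofConv, pts_pL_left, pts_pL_left]
  have hc : f.toRingHom.comp (algebraMap L D) = algebraMap L D' := f.comp_algebraMap
  have h := congrArg (fun m => m.left) (Q.pt_nat f.toRingHom (algebraMap L D) χ)
  rw [show algebraMap L D' = f.toRingHom.comp (algebraMap L D) from hc.symm]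
  exact h.symm

end D

include e Q in
/-- A presentation gives a chart of Hopf algebras. -/
theorem exists_chart : Nonempty ((L ⊗[K] A) ≃ₐc[L] MonoidAlgebra L (Multiplicative M)) := by
  let N := Multiplicative M
  let u : A →ₐ[K] MonoidAlgebra L N := (pL e Q (MonoidAlgebra.of L N)).ofConv
  let Φ : L ⊗[K] A →ₐ[L] MonoidAlgebra L N :=
    Algebra.TensorProduct.lift (Algebra.ofId L _) u fun _ _ => Commute.all _ _
  have hΦ : ∀ a, Φ (1 ⊗ₜ a) = u a := fun a => by simp [Φ, ← MonoidAlgebra.one_def]
  have hu : ∀ {D : Type u} [CommRing D] [Algebra K D] [Algebra L D] [IsScalarTower K L D]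
      (χ : N →* D), (pL e Q χ).ofConv = ((MonoidAlgebra.lift L D N χ).restrictScalars K).comp u := by
    intro D _ _ _ _ χ
    rw [← pL_nat]
    congr 2
    exact MonoidHom.ext fun m => by simp
  obtain ⟨χ₀, hχ₀⟩ := pL_surjective e Q
    (WithConv.toConv (Algebra.TensorProduct.includeRight : A →ₐ[K] L ⊗[K] A))
  let Ψ : MonoidAlgebra L N →ₐ[L] L ⊗[K] A := MonoidAlgebra.lift L _ N χ₀
  have hΨ : ∀ a, Ψ (u a) = 1 ⊗ₜ a := fun a => by
    have := AlgHom.congr_fun (hu χ₀) a
    rw [hχ₀] at this
    exact this.symm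
  have h1 : Ψ.comp Φ = AlgHom.id L _ := by
    refine Algebra.TensorProduct.ext' fun t a => ?_
    rw [show t ⊗ₜ[K] a = t • ((1 : L) ⊗ₜ[K] a) by simp [TensorProduct.smul_tmul']]
    simp [hΦ, hΨ]
  have h2 : Φ.comp Ψ = AlgHom.id L _ := by
    have he : Φ.toRingHom.toMonoidHom.comp χ₀ = MonoidAlgebra.of L N := by
      refine pL_injective e Q (WithConv.ofConv_injective ?_)
      rw [pL_nat, hχ₀]
      exact AlgHom.ext fun a => hΦ a
    refine MonoidAlgebra.algHom_ext (fun m => ?_) (by ext)
    have := DFunLike.congr_fun he m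
    change Φ (Ψ (MonoidAlgebra.single m 1)) = MonoidAlgebra.single m 1
    rw [show Ψ (MonoidAlgebra.single m 1) = χ₀ m by simp [Ψ]; rfl]
    exact this
  let Φe : L ⊗[K] A ≃ₐ[L] MonoidAlgebra L N := AlgEquiv.ofAlgHom Φ Ψ h2 h1
  refine ⟨BialgEquiv.ofAlgEquiv Φe ?_ ?_⟩
  · refine Algebra.TensorProduct.ext' fun t a => ?_
    have hone : (pL e Q (1 : N →* L)).ofConv = (1 : WithConv (A →ₐ[K] L)).ofConv := by rw [pL_one]
    rw [hu] at hone
    have h := AlgHom.congr_fun hone a
    change Coalgebra.counit (R := L) (Φ (t ⊗ₜ a)) = Coalgebra.counit (R := L) (t ⊗ₜ[K] a)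
    rw [show t ⊗ₜ[K] a = t • ((1 : L) ⊗ₜ[K] a) by simp [TensorProduct.smul_tmul'], map_smul, map_smul,
      map_smul, hΦ]
    refine congrArg (t • ·) ?_
    have hc : (MonoidAlgebra.lift L L N (1 : N →* L)) = Bialgebra.counitAlgHom L (MonoidAlgebra L N) :=
      MonoidAlgebra.algHom_ext (fun m => by simp) (by ext)
    rw [AlgHom.comp_apply, AlgHom.restrictScalars_apply, hc] at h
    refine h.trans ?_
    simp [AlgHom.convOne_apply, Algebra.smul_def]
  · refine Algebra.TensorProduct.ext' fun t a => ?_
    let il : MonoidAlgebra L N →ₐ[L] MonoidAlgebra L N ⊗[L] MonoidAlgebra L N :=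
      Algebra.TensorProduct.includeLeft
    let ir : MonoidAlgebra L N →ₐ[L] MonoidAlgebra L N ⊗[L] MonoidAlgebra L N :=
      Algebra.TensorProduct.includeRight
    have hm := congrArg WithConv.ofConv (pL_mul e Q (il.toRingHom.toMonoidHom.comp (MonoidAlgebra.of L N))
      (ir.toRingHom.toMonoidHom.comp (MonoidAlgebra.of L N)))
    have hl : (MonoidAlgebra.lift L _ N ((il.toRingHom.toMonoidHom.comp (MonoidAlgebra.of L N)) *
        (ir.toRingHom.toMonoidHom.comp (MonoidAlgebra.of L N)))) =
        Bialgebra.comulAlgHom L (MonoidAlgebra L N) :=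
      MonoidAlgebra.algHom_ext (fun m => by simp [il, ir]) (by ext)
    rw [hu, hl] at hm
    have h := AlgHom.congr_fun hm a
    simp only [AlgHom.comp_apply, AlgHom.restrictScalars_apply, AlgHom.convMul_apply] at h
    rw [pL_nat, pL_nat] at h
    change Algebra.TensorProduct.map Φ Φ (Coalgebra.comul (R := L) (t ⊗ₜ[K] a)) =
      Coalgebra.comul (R := L) (Φ (t ⊗ₜ a))
    rw [show t ⊗ₜ[K] a = t • ((1 : L) ⊗ₜ[K] a) by simp [TensorProduct.smul_tmul'], map_smul, map_smul,
      map_smul, map_smul, hΦ]
    refine congrArg (t • ·) (Eq.trans ?_ h.symm)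
    simp only [TensorProduct.comul_tmul, CommSemiring.comul_apply]
    generalize Coalgebra.comul (R := K) a = z
    induction z using TensorProduct.induction_on with
    | zero => simp
    | tmul p q => simp [hΦ, il, ir, u]
    | add v w hv hw => simp only [TensorProduct.tmul_add, map_add, hv, hw]

end Points

end Groth.Agent.H02CA.Tori
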