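import Groth.Agent.H02CA.Tori.Action
import Groth.Agent.H21Diag.Diag
import Mathlib.RingTheory.Bialgebra.MonoidAlgebra

/-!
A Galois-invariant cocharacter of a torus gives a copy of `𝔾ₘ` inside it.
-/

set_option autoImplicit false
set_option linter.style.haveILetI false
set_option backward.isDefEq.respectTransparency false

universe u

open TensorProduct

namespace Groth.Agent.H02CA.Tori

variable {K : Type u} [Field K]

section Coefficients

variable (L : Type u) [Field L] [Algebra K L] (G : Type) [CommGroup G]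

/-- Extension of scalars on a group algebra. -/
noncomputable def extC : MonoidAlgebra K G →ₐ[K] MonoidAlgebra L G :=
  MonoidAlgebra.mapAlgHom G (Algebra.ofId K L)

theorem coeff_extC (p : MonoidAlgebra K G) (x : G) : (extC L G p).coeff x = algebraMap K L (p.coeff x) := by
  simp [extC, MonoidAlgebra.coeff_mapAlgHom]

theorem extC_single (x : G) (r : K) : extC L G (MonoidAlgebra.single x r) = MonoidAlgebra.single x (algebraMap K L r) := by
  simp [extC]

theorem extC_injective : Function.Injective (extC (K := K) L G) := fun p q h =>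
  MonoidAlgebra.coeff_injective (Finsupp.ext fun x => (algebraMap K L).injective (by rw [← coeff_extC, ← coeff_extC, h]))

theorem extC_counit (p : MonoidAlgebra K G) :
    Coalgebra.counit (R := L) (extC L G p) = algebraMap K L (Coalgebra.counit (R := K) p) := by
  induction p using MonoidAlgebra.induction_linear with
  | zero => simp
  | add x y hx hy => simp only [map_add, hx, hy]
  | single x r => simp [extC_single]

/-- The comparison of tensor squares. -/
noncomputable def sqC : MonoidAlgebra K G ⊗[K] MonoidAlgebra K G →ₐ[K] MonoidAlgebra L G ⊗[L] MonoidAlgebra L G :=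
  Algebra.TensorProduct.lift
    (((Algebra.TensorProduct.includeLeft : MonoidAlgebra L G →ₐ[L] _).restrictScalars K).comp (extC L G))
    (((Algebra.TensorProduct.includeRight : MonoidAlgebra L G →ₐ[L] _).restrictScalars K).comp (extC L G))
    fun _ _ => Commute.all _ _

theorem sqC_tmul (p q : MonoidAlgebra K G) : sqC L G (p ⊗ₜ q) = extC L G p ⊗ₜ extC L G q := by
  simp [sqC]

theorem sqC_injective : Function.Injective (sqC (K := K) L G) := by
  let bK := (MonoidAlgebra.basis G K).tensorProduct (MonoidAlgebra.basis G K)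
  let bL := (MonoidAlgebra.basis G L).tensorProduct (MonoidAlgebra.basis G L)
  have key : ∀ (z) (i : G × G), bL.repr (sqC L G z) i = algebraMap K L (bK.repr z i) := fun z i => by
    induction z using TensorProduct.induction_on with
    | zero => simp
    | add x y hx hy => simp only [map_add, Finsupp.add_apply, hx, hy]
    | tmul p q =>
      obtain ⟨x, y⟩ := i
      rw [sqC_tmul, Module.Basis.tensorProduct_repr_tmul_apply, Module.Basis.tensorProduct_repr_tmul_apply,
        smul_eq_mul, smul_eq_mul, map_mul]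
      change (extC L G q).coeff y * (extC L G p).coeff x = _
      rw [coeff_extC, coeff_extC]
      rfl
  exact fun z w h => bK.repr.injective (Finsupp.ext fun i => (algebraMap K L).injective (by rw [← key, ← key, h]))

theorem sqC_comul (p : MonoidAlgebra K G) :
    sqC L G (Coalgebra.comul (R := K) p) = Coalgebra.comul (R := L) (extC L G p) := by
  induction p using MonoidAlgebra.induction_linear with
  | zero => simp
  | add x y hx hy => simp only [map_add, hx, hy]
  | single x r => simp [extC_single, sqC_tmul]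

end Coefficients

variable {A : Type u} [CommRing A] [HopfAlgebra K A] {n : ℕ}

namespace GalSplit

variable (P : GalSplit K A n) (ψ : (Fin n → ℤ) →+ ℤ)

/-- The cocharacter over the splitting field. -/
noncomputable def cohom : P.L ⊗[K] A →ₐc[P.L] MonoidAlgebra P.L (Multiplicative ℤ) :=
  (MonoidAlgebra.mapDomainBialgHom P.L (AddMonoidHom.toMultiplicative ψ)).comp (P.chart : _ →ₐc[P.L] _)

theorem cohom_gl (t : P.L) (v : Fin n → ℤ) :
    P.cohom ψ (t • P.gl (Multiplicative.ofAdd v)) = MonoidAlgebra.single (Multiplicative.ofAdd (ψ v)) t := by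
  rw [map_smul]
  change t • MonoidAlgebra.mapDomainBialgHom P.L _ (P.chart (P.gl _)) = _
  rw [chart_gl, MonoidAlgebra.mapDomainBialgHom_single, MonoidAlgebra.smul_single, smul_eq_mul, mul_one]
  rfl

theorem cohom_surjective (h : Function.Surjective ψ) : Function.Surjective (P.cohom ψ) := fun p => by
  induction p using MonoidAlgebra.induction_linear with
  | zero => exact ⟨0, map_zero _⟩
  | add x y hx hy =>
    obtain ⟨a, rfl⟩ := hx
    obtain ⟨b, rfl⟩ := hy
    exact ⟨a + b, map_add _ _ _⟩
  | single x t =>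
    obtain ⟨v, hv⟩ := h x.toAdd
    exact ⟨t • P.gl (Multiplicative.ofAdd v), by rw [cohom_gl, hv]; rfl⟩

theorem coeff_cohom_act (hψ : ∀ σ v, ψ (P.lin σ v) = ψ v) (σ : P.L ≃ₐ[K] P.L) (z : P.L ⊗[K] A)
    (x : Multiplicative ℤ) : (P.cohom ψ (P.act σ z)).coeff x = σ ((P.cohom ψ z).coeff x) := by
  classical
  induction z using P.induction with
  | h0 => simp
  | hadd a b ha hb => simp only [map_add, MonoidAlgebra.coeff_add, Finsupp.add_apply, ha, hb]
  | hs t m =>
    obtain ⟨v, rfl⟩ := Multiplicative.ofAdd.surjective m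
    rw [act_smul, ← gl_lin, cohom_gl, cohom_gl, hψ, MonoidAlgebra.coeff_single_apply,
      MonoidAlgebra.coeff_single_apply]
    split <;> simp

theorem exists_extC_eq (hψ : ∀ σ v, ψ (P.lin σ v) = ψ v) (a : A) :
    ∃ p, extC (K := K) P.L (Multiplicative ℤ) p = P.cohom ψ (1 ⊗ₜ a) := by
  have h : ∀ x, ∃ r : K, algebraMap K P.L r = (P.cohom ψ (1 ⊗ₜ a)).coeff x := fun x =>
    (IsGalois.mem_range_algebraMap_iff_fixed (F := K) (E := P.L) _).2 fun σ => by
      rw [← P.coeff_cohom_act ψ hψ σ]
      simp [act]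
  choose r hr using h
  refine ⟨.ofCoeff (Finsupp.onFinset (P.cohom ψ (1 ⊗ₜ a)).coeff.support r fun x hx => ?_), ?_⟩
  · rw [Finsupp.mem_support_iff, ← hr]
    exact (map_ne_zero _).2 hx
  · refine MonoidAlgebra.coeff_injective (Finsupp.ext fun x => ?_)
    rw [coeff_extC, MonoidAlgebra.coeff_ofCoeff, Finsupp.onFinset_apply, hr]

/-- The cocharacter, on `A`. -/
noncomputable def cohomA : A →ₐ[K] MonoidAlgebra P.L (Multiplicative ℤ) :=
  ((P.cohom ψ).toAlgHom.restrictScalars K).comp Algebra.TensorProduct.includeRight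

/-- The descended cocharacter. -/
noncomputable def coch₀ (hψ : ∀ σ v, ψ (P.lin σ v) = ψ v) : A →ₐ[K] MonoidAlgebra K (Multiplicative ℤ) :=
  (AlgEquiv.ofInjective (extC P.L (Multiplicative ℤ)) (extC_injective P.L _)).symm.toAlgHom.comp
    ((P.cohomA ψ).codRestrict _ fun a => P.exists_extC_eq ψ hψ a)

theorem extC_coch₀ (hψ : ∀ σ v, ψ (P.lin σ v) = ψ v) (a : A) :
    extC P.L (Multiplicative ℤ) (P.coch₀ ψ hψ a) = P.cohom ψ (1 ⊗ₜ a) := by
  have h := (AlgEquiv.ofInjective (extC P.L (Multiplicative ℤ)) (extC_injective (K := K) P.L _)).apply_symm_apply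
    (((P.cohomA ψ).codRestrict _ fun a => P.exists_extC_eq ψ hψ a) a)
  exact congrArg Subtype.val h

theorem coch₀_surjective (hψ : ∀ σ v, ψ (P.lin σ v) = ψ v) (h : Function.Surjective ψ) :
    Function.Surjective (P.coch₀ ψ hψ) := by
  obtain ⟨r, hr⟩ := LinearMap.exists_leftInverse_of_injective (Algebra.linearMap K P.L)
    (LinearMap.ker_eq_bot.2 (algebraMap K P.L).injective)
  let R : MonoidAlgebra P.L (Multiplicative ℤ) →+ MonoidAlgebra K (Multiplicative ℤ) :=
    { toFun := MonoidAlgebra.map r.toAddMonoidHom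
      map_zero' := MonoidAlgebra.map_zero _
      map_add' := MonoidAlgebra.map_add _ }
  have hR : ∀ (t : P.L) (p), R (t • extC P.L _ p) = r t • p := fun t p => by
    refine MonoidAlgebra.coeff_injective (Finsupp.ext fun x => ?_)
    simp only [R, AddMonoidHom.coe_mk, ZeroHom.coe_mk, MonoidAlgebra.coeff_map, Finsupp.mapRange_apply,
      MonoidAlgebra.coeff_smul, Finsupp.smul_apply, coeff_extC]
    change r (t • algebraMap K P.L _) = _
    rw [smul_eq_mul, mul_comm, ← Algebra.smul_def, map_smul, smul_eq_mul, smul_eq_mul, mul_comm]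
  intro p
  obtain ⟨z, hz⟩ := P.cohom_surjective ψ h (extC P.L _ p)
  have h1 : r 1 = 1 := by simpa using LinearMap.congr_fun hr 1
  have hp : R (P.cohom ψ z) = p := by rw [hz, ← one_smul P.L (extC P.L _ p), hR, h1, one_smul]
  rw [← hp]
  clear hp hz
  induction z using TensorProduct.induction_on with
  | zero => exact ⟨0, by simp⟩
  | add x y hx hy =>
    obtain ⟨a, ha⟩ := hx
    obtain ⟨b, hb⟩ := hy
    exact ⟨a + b, by rw [map_add, map_add, map_add, ha, hb]⟩
  | tmul t a =>
    refine ⟨r t • a, ?_⟩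
    rw [show t ⊗ₜ[K] a = t • ((1 : P.L) ⊗ₜ[K] a) by simp [smul_tmul'], map_smul, map_smul,
      ← extC_coch₀ P ψ hψ, hR]

/-- The descended cocharacter, as a map of bialgebras. -/
noncomputable def coch (hψ : ∀ σ v, ψ (P.lin σ v) = ψ v) : A →ₐc[K] MonoidAlgebra K (Multiplicative ℤ) :=
  BialgHom.ofAlgHom (P.coch₀ ψ hψ)
    (AlgHom.ext fun a => (algebraMap K P.L).injective (by
      change algebraMap K P.L (Coalgebra.counit (R := K) (P.coch₀ ψ hψ a)) =
        algebraMap K P.L (Coalgebra.counit (R := K) a)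
      rw [← extC_counit, extC_coch₀]
      refine (CoalgHomClass.counit_comp_apply (P.cohom ψ) _).trans ?_
      simp [Algebra.smul_def]))
    (AlgHom.ext fun a => sqC_injective P.L _ (by
      change sqC P.L _ (Algebra.TensorProduct.map (P.coch₀ ψ hψ) (P.coch₀ ψ hψ) (Coalgebra.comul (R := K) a)) =
        sqC P.L _ (Coalgebra.comul (R := K) (P.coch₀ ψ hψ a))
      rw [sqC_comul, extC_coch₀]
      refine Eq.trans ?_ (CoalgHomClass.map_comp_comul_apply (P.cohom ψ) _)
      simp only [TensorProduct.comul_tmul, CommSemiring.comul_apply]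
      generalize Coalgebra.comul (R := K) a = w
      induction w using TensorProduct.induction_on with
      | zero => simp
      | tmul p q => simp [sqC_tmul, extC_coch₀]
      | add v w hv hw => simp only [TensorProduct.tmul_add, map_add, hv, hw]))

end GalSplit

open CategoryTheory MonoidalCategory CartesianMonoidalCategory MonObj GrpObj AlgebraicGeometry

set_option backward.isDefEq.respectTransparency true in
theorem exists_mono_Gm_of_diag {T : Over (Spec (CommRingCat.of K))} [GrpObj T] (f : Red.diag K ℤ ⟶ T) [IsMonHom f]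
    [Mono f] : ∃ i : Red.Gm (Spec (CommRingCat.of K)) ⟶ T, IsMonHom i ∧ Mono i := by
  haveI := H21Diag.isIso_diagToDS K ℤ
  haveI := H21Diag.isMonHom_diagToDS K ℤ
  exact ⟨(asIso (H21Diag.diagToDS K ℤ)).inv ≫ f, inferInstance, mono_comp _ _⟩

theorem exists_mono_Gm {T : Over (Spec (CommRingCat.of K))} [GrpObj T]
    (e : (Spec (CommRingCat.of A)).asOver (Spec (CommRingCat.of K)) ≅ T) [IsMonHom e.hom]
    (P : GalSplit K A n) (ψ₀ : (Fin n → ℤ) →+ ℤ) (h0 : ψ₀ ≠ 0) (hψ₀ : ∀ σ v, ψ₀ (P.lin σ v) = ψ₀ v) :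
    ∃ i : Red.Gm (Spec (CommRingCat.of K)) ⟶ T, IsMonHom i ∧ Mono i := by
  obtain ⟨c, hc, ψ, hψs, hfac⟩ : ∃ (c : ℤ) (_ : c ≠ 0) (ψ : (Fin n → ℤ) →+ ℤ),
      Function.Surjective ψ ∧ ∀ v, ψ₀ v = c * ψ v := by
    obtain ⟨c, hc⟩ := Int.subgroup_cyclic ψ₀.range
    have hm : ∀ v, c ∣ ψ₀ v := fun v => by
      have : ψ₀ v ∈ ψ₀.range := ⟨v, rfl⟩
      rw [hc, AddSubgroup.mem_closure_singleton] at this
      obtain ⟨k, hk⟩ := this
      exact ⟨k, by rw [← hk, smul_eq_mul, mul_comm]⟩
    have c0 : c ≠ 0 := fun h => h0 (AddMonoidHom.ext fun v => by simpa [h] using hm v)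
    choose q hq using hm
    have hadd : ∀ v w, q (v + w) = q v + q w := fun v w =>
      mul_left_cancel₀ c0 (by rw [← hq, mul_add, ← hq, ← hq, map_add])
    refine ⟨c, c0, AddMonoidHom.mk' q hadd, fun y => ?_, hq⟩
    obtain ⟨v, hv⟩ : c * y ∈ ψ₀.range := by
      rw [hc, AddSubgroup.mem_closure_singleton]
      exact ⟨y, by rw [smul_eq_mul, mul_comm]⟩
    exact ⟨v, mul_left_cancel₀ c0 ((hq v).symm.trans hv)⟩
  have hψ : ∀ σ v, ψ (P.lin σ v) = ψ v := fun σ v => mul_left_cancel₀ hc (by rw [← hfac, ← hfac, hψ₀])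
  let g := P.coch ψ hψ
  let f : Red.diag K ℤ ⟶ (Spec (CommRingCat.of A)).asOver (Spec (CommRingCat.of K)) :=
    ((hopfSpec (CommRingCat.of K)).map (CommHopfAlgCat.ofHom g).op).hom.hom
  haveI : IsMonHom f := ((hopfSpec (CommRingCat.of K)).map (CommHopfAlgCat.ofHom g).op).hom.isMonHom_hom
  have hf : IsClosedImmersion f.left :=
    IsClosedImmersion.spec_of_surjective (CommRingCat.ofHom g.toAlgHom.toRingHom)
      (P.coch₀_surjective ψ hψ hψs)
  haveI : Mono f.left := inferInstance
  haveI : Mono f := (Over.forget _).mono_of_mono_map ‹_›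
  haveI : Mono (f ≫ e.hom) := mono_comp _ _
  haveI : IsMonHom (f ≫ e.hom) := inferInstance
  exact exists_mono_Gm_of_diag (f ≫ e.hom)

end Groth.Agent.H02CA.Tori
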