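import Groth.Agent.H02CA.Tori.Cochar
import Mathlib.Algebra.CharP.Algebra
import Mathlib.Algebra.CharP.Reduced
import Mathlib.LinearAlgebra.Matrix.Adjugate
import Mathlib.RingTheory.RootsOfUnity.PrimitiveRoots

/-!
Torsion points of a torus without Galois-invariant cocharacters.
-/

set_option autoImplicit false
set_option linter.style.haveILetI false
set_option backward.isDefEq.respectTransparency false

universe u

open TensorProduct

namespace Groth.Agent.H02CA.Tori

variable {K : Type u} [Field K] {A : Type u} [CommRing A] [HopfAlgebra K A] {n : ℕ}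

namespace GalSplit

variable (P : GalSplit K A n)

/-- There is no invariant linear form on the characters. -/
def Aniso : Prop := ∀ ψ : (Fin n → ℤ) →+ ℤ, (∀ σ v, ψ (P.lin σ v) = ψ v) → ψ = 0

/-- The character values are fixed by Galois. -/
def Fixed (φ : WithConv (A →ₐ[K] K)) : Prop := ∀ (σ : P.L ≃ₐ[K] P.L) (m : Chr n), σ (P.val φ m) = P.val φ m

theorem pow_eq_one_of_val {φ : WithConv (A →ₐ[K] K)} (N : ℕ) (h : ∀ m, P.val φ m ^ N = 1) : φ ^ N = 1 :=
  P.val_injective (MonoidHom.ext fun m => by rw [map_pow, map_one]; exact h m)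

theorem val_pow {φ : WithConv (A →ₐ[K] K)} {d : ℕ} (h : φ ^ d = 1) (m : Chr n) : P.val φ m ^ d = 1 := by
  rw [← MonoidHom.pow_apply, ← map_pow, h, map_one]
  rfl

theorem fixed_of_roots {φ : WithConv (A →ₐ[K] K)} {d : ℕ} (h : φ ^ d = 1)
    (hroot : ∀ y : P.L, y ^ d = 1 → y ∈ (algebraMap K P.L).range) : P.Fixed φ := fun σ m => by
  obtain ⟨r, hr⟩ := hroot _ (P.val_pow h m)
  rw [← hr, σ.commutes]

theorem val_mulVec {φ : WithConv (A →ₐ[K] K)} (hφ : P.Fixed φ) (g : P.image) (v : Fin n → ℤ) :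
    P.val φ (Multiplicative.ofAdd ((g.1.1 : Matrix (Fin n) (Fin n) ℤ).mulVec v)) =
      P.val φ (Multiplicative.ofAdd v) := by
  obtain ⟨σ, hσ⟩ := P.exists_of_mem_image g
  rw [hσ, val_lin, hφ]

theorem sum_image_eq_zero [Fintype P.image] (h : P.Aniso) :
    ∑ g : P.image, (g.1.1 : Matrix (Fin n) (Fin n) ℤ) = 0 := by
  refine Matrix.toLin'.injective (LinearMap.ext fun v => funext fun i => ?_)
  let M := ∑ g : P.image, (g.1.1 : Matrix (Fin n) (Fin n) ℤ)
  have hinv : ∀ σ : P.L ≃ₐ[K] P.L, M * (P.rep σ).1 = M := fun σ => by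
    let s : P.image := ⟨P.rep σ, σ, rfl⟩
    rw [Finset.sum_mul]
    exact Fintype.sum_equiv (Equiv.mulRight s) _ _ fun g => rfl
  have := h (AddMonoidHom.mk' (fun w => M.mulVec w i) fun a b => by rw [Matrix.mulVec_add, Pi.add_apply])
    fun σ w => by
      change M.mulVec (P.lin σ w) i = M.mulVec w i
      rw [lin_eq_mulVec, Matrix.mulVec_mulVec, hinv]
  have := DFunLike.congr_fun this v
  simpa [M, Matrix.toLin'_apply, Matrix.sum_mulVec] using this

theorem pow_card_image (h : P.Aniso) {φ : WithConv (A →ₐ[K] K)} (hφ : P.Fixed φ) :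
    φ ^ Nat.card P.image = 1 := by
  classical
  haveI : Fintype P.image := Fintype.ofFinite _
  refine P.pow_eq_one_of_val _ fun m => ?_
  obtain ⟨v, rfl⟩ := Multiplicative.ofAdd.surjective m
  have hprod : ∏ g : P.image, P.val φ (Multiplicative.ofAdd ((g.1.1 : Matrix (Fin n) (Fin n) ℤ).mulVec v)) = 1 := by
    rw [← map_prod, ← ofAdd_sum, ← Matrix.sum_mulVec, P.sum_image_eq_zero h, Matrix.zero_mulVec, ofAdd_zero,
      map_one]
  simpa [P.val_mulVec hφ] using hprod

include P in
theorem orderOf_cast_ne_zero {φ : WithConv (A →ₐ[K] K)} (hφ : IsOfFinOrder φ) : (orderOf φ : K) ≠ 0 := by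
  intro h0
  obtain ⟨p, hp⟩ := CharP.exists K
  have hd : orderOf φ ≠ 0 := hφ.orderOf_pos.ne'
  obtain ⟨k, hk⟩ := (CharP.cast_eq_zero_iff K p _).1 h0
  have hp0 : p ≠ 0 := fun h => hd (by rw [hk, h, zero_mul])
  have hprime : p.Prime := (CharP.char_is_prime_or_zero K p).resolve_right hp0
  haveI : CharP P.L p := charP_of_injective_algebraMap (algebraMap K P.L).injective p
  haveI : Fact p.Prime := ⟨hprime⟩
  have hone : φ ^ k = 1 := P.pow_eq_one_of_val k fun m => by
    refine frobenius_inj P.L p ?_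
    rw [frobenius_def, map_one, ← pow_mul, mul_comm, ← hk]
    exact P.val_pow (pow_orderOf_eq_one φ) m
  have hk0 : k ≠ 0 := fun h => hd (by rw [hk, h, mul_zero])
  have := Nat.le_of_dvd (Nat.pos_of_ne_zero hk0) (orderOf_dvd_of_pow_eq_one hone)
  have := hprime.two_le
  nlinarith [Nat.pos_of_ne_zero hk0]

theorem chr_ext {H : Type*} [CommGroup H] (f g : Chr n →* H)
    (h : ∀ i, f (Multiplicative.ofAdd (Pi.single i 1)) = g (Multiplicative.ofAdd (Pi.single i 1))) : f = g := by
  refine MonoidHom.ext fun m => ?_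
  obtain ⟨v, rfl⟩ := Multiplicative.ofAdd.surjective m
  rw [show v = ∑ i, v i • (Pi.single i 1 : Fin n → ℤ) from pi_eq_sum_univ' v, ofAdd_sum, map_prod, map_prod]
  exact Finset.prod_congr rfl fun i _ => by rw [ofAdd_zsmul, map_zpow, map_zpow, h]

include P in
theorem card_le_pow (G : Subgroup (WithConv (A →ₐ[K] K))) (N : ℕ) (hN : 0 < N)
    (hG : ∀ φ ∈ G, φ ^ N = 1) : Nat.card G ≤ N ^ n := by
  classical
  let R := (Polynomial.nthRoots N (1 : P.L)).toFinset
  let f : G → Fin n → R := fun φ i => ⟨P.val φ.1 (Multiplicative.ofAdd (Pi.single i 1)), by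
    rw [Multiset.mem_toFinset, Polynomial.mem_nthRoots hN]
    exact P.val_pow (hG _ φ.2) _⟩
  have hf : Function.Injective f := fun φ φ' h => by
    refine Subtype.ext (P.val_injective ?_)
    have := chr_ext (P.val φ.1).toHomUnits (P.val φ'.1).toHomUnits fun i =>
      Units.ext (congrArg (fun x : R => (x : P.L)) (congrFun h i))
    exact MonoidHom.ext fun m => congrArg Units.val (DFunLike.congr_fun this m)
  refine (Nat.card_le_card_of_injective f hf).trans ?_
  rw [Nat.card_fun, Nat.card_fin, Nat.card_eq_finsetCard]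
  exact Nat.pow_le_pow_left ((Multiset.toFinset_card_le _).trans (Polynomial.card_nthRoots N 1)) n

end GalSplit

section RankTwo

open Matrix

theorem abs_trace_le_two {g : Matrix (Fin 2) (Fin 2) ℤ} {N : ℕ} (hN : 0 < N) (hg : g ^ N = 1)
    (hdet : g.det = 1) : |g.trace| ≤ 2 := by
  by_contra hlt
  have hsq : g * g = g.trace • g - 1 := by
    rw [det_fin_two] at hdet
    ext i j
    fin_cases i <;> fin_cases j <;> simp [-zsmul_eq_mul, Matrix.mul_apply, Matrix.smul_apply, trace_fin_two, Fin.sum_univ_two] <;>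
      first | ring1 | linear_combination -hdet | linear_combination hdet
  let a : ℕ → ℤ := fun k => (g ^ k).trace
  have h0 : a 0 = 2 := by simp [a]
  have h1 : a 1 = g.trace := by simp [a]
  have hrec : ∀ k, a (k + 2) = g.trace * a (k + 1) - a k := fun k => by
    simp only [a, pow_add, pow_two, hsq, mul_sub, mul_one, Matrix.mul_smul, trace_sub, trace_smul, smul_eq_mul,
      pow_one]
  have hgrow : ∀ k, 2 ≤ |a k| ∧ |a k| < |a (k + 1)| := by
    intro k
    induction k with
    | zero => rw [h0, h1]; exact ⟨le_rfl, by simpa using lt_of_not_ge hlt⟩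
    | succ k ih =>
      refine ⟨by omega, ?_⟩
      rw [show k + 1 + 1 = k + 2 from rfl, hrec]
      have := abs_sub_abs_le_abs_sub (g.trace * a (k + 1)) (a k)
      rw [abs_mul] at this
      nlinarith [lt_of_not_ge hlt, abs_nonneg (a (k + 1))]
  have hmono : StrictMono fun k => |a k| := strictMono_nat_of_lt_succ fun k => (hgrow k).2
  have h := hmono hN
  have hN2 : a N = 2 := by simp [a, hg]
  simp only [h0, hN2] at h
  exact lt_irrefl _ h

theorem det_or_trace {g : Matrix (Fin 2) (Fin 2) ℤ} {N : ℕ} (hN : 0 < N) (hg : g ^ N = 1) :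
    (g.det = 1 ∧ |g.trace| ≤ 2) ∨ (g.det = -1 ∧ g.trace = 0) := by
  have hu : IsUnit g.det := (Matrix.isUnit_iff_isUnit_det g).1 (IsUnit.of_pow_eq_one hg hN.ne')
  rcases Int.isUnit_iff.1 hu with h | h
  · exact Or.inl ⟨h, abs_trace_le_two hN hg h⟩
  · refine Or.inr ⟨h, ?_⟩
    have hg2 : (g * g) ^ N = 1 := by rw [← pow_two, ← pow_mul, mul_comm, pow_mul, hg, one_pow]
    have hd2 : (g * g).det = 1 := by rw [det_mul, h]; rfl
    have := abs_trace_le_two hN hg2 hd2
    have htr : (g * g).trace = g.trace ^ 2 + 2 := by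
      rw [det_fin_two] at h
      simp [Matrix.mul_apply, trace_fin_two, Fin.sum_univ_two]
      linear_combination (-2) * h
    rw [htr, abs_of_nonneg (by positivity)] at this
    nlinarith

variable (P : GalSplit K A 2)

theorem GalSplit.exists_exponent_two (h : P.Aniso) :
    ∃ N, 0 < N ∧ N ≤ 4 ∧ ∀ φ, P.Fixed φ → φ ^ N = 1 := by
  classical
  haveI : Fintype P.image := Fintype.ofFinite _
  have hcase : ∀ g : P.image, ((g.1.1 : Matrix (Fin 2) (Fin 2) ℤ).det = 1 ∧ |(g.1.1 : Matrix _ _ ℤ).trace| ≤ 2) ∨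
      ((g.1.1 : Matrix (Fin 2) (Fin 2) ℤ).det = -1 ∧ (g.1.1 : Matrix _ _ ℤ).trace = 0) := fun g =>
    det_or_trace (orderOf_pos g) (by
      let f : P.image →* Matrix (Fin 2) (Fin 2) ℤ := (Units.coeHom _).comp P.image.subtype
      change f g ^ orderOf g = 1
      rw [← map_pow f, pow_orderOf_eq_one, map_one])
  have hdet : ∀ g : Matrix (Fin 2) (Fin 2) ℤ, (g - 1).det = g.det - g.trace + 1 := fun g => by
    simp [det_fin_two, trace_fin_two]; ring
  obtain ⟨g, hg⟩ : ∃ g : P.image, (g.1.1 - 1 : Matrix (Fin 2) (Fin 2) ℤ).det ≠ 0 := by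
    by_contra hall
    push Not at hall
    have hnn : ∀ g : P.image, 0 ≤ (g.1.1 : Matrix (Fin 2) (Fin 2) ℤ).trace := fun g => by
      have := hall g
      rw [hdet] at this
      rcases hcase g with ⟨h1, -⟩ | ⟨-, h2⟩ <;> omega
    have hsum := congrArg Matrix.trace (P.sum_image_eq_zero h)
    rw [trace_sum, trace_zero] at hsum
    have := (Finset.sum_eq_zero_iff_of_nonneg fun g _ => hnn g).1 hsum 1 (Finset.mem_univ _)
    simp at this
  let B : Matrix (Fin 2) (Fin 2) ℤ := g.1.1 - 1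
  refine ⟨B.det.natAbs, Int.natAbs_pos.2 hg, ?_, fun φ hφ => P.pow_eq_one_of_val _ fun m => ?_⟩
  · have : B.det = _ := hdet g.1.1
    rcases hcase g with ⟨h1, h2⟩ | ⟨h1, h2⟩
    · rw [abs_le] at h2; omega
    · omega
  obtain ⟨v, rfl⟩ := Multiplicative.ofAdd.surjective m
  let w := B.adjugate.mulVec v
  have hw : (g.1.1 : Matrix (Fin 2) (Fin 2) ℤ).mulVec w - w = B.det • v := by
    rw [show (g.1.1 : Matrix (Fin 2) (Fin 2) ℤ).mulVec w - w = B.mulVec w by
      simp [B, Matrix.sub_mulVec], Matrix.mulVec_mulVec, mul_adjugate, smul_mulVec, one_mulVec]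
  let χ := (P.val φ).toHomUnits
  have h1 : χ (Multiplicative.ofAdd v) ^ B.det = 1 := by
    rw [← map_zpow, ← ofAdd_zsmul, ← hw, ofAdd_sub, map_div, div_eq_one]
    exact Units.ext (P.val_mulVec hφ g w)
  have h2 := congrArg Units.val (pow_natAbs_eq_one.2 h1)
  simpa [χ] using h2

end RankTwo

end Groth.Agent.H02CA.Tori
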