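import Groth.Agent.H02CA.Tori.Count

/-!
Rational points of a torus, and the roots of unity they take as character values.
-/

set_option autoImplicit false
set_option linter.style.haveILetI false
set_option backward.isDefEq.respectTransparency false

universe u

open TensorProduct

namespace Groth.Agent.H02CA.Tori

variable {K : Type u} [Field K]

theorem mem_range_of_primitive {L : Type u} [Field L] [Algebra K L] {d : ℕ} [NeZero d] {ζ : K}
    (hζ : IsPrimitiveRoot ζ d) {y : L} (hy : y ^ d = 1) : y ∈ (algebraMap K L).range := by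
  obtain ⟨i, -, hi⟩ := (hζ.map_of_injective (algebraMap K L).injective).eq_pow_of_pow_eq_one hy
  exact ⟨ζ ^ i, by rw [map_pow, hi]⟩

theorem mem_range_of_splits {L : Type u} [Field L] [Algebra K L] {d : ℕ} (hd : 0 < d)
    (hK : (Polynomial.X ^ d - 1 : Polynomial K).Splits) {y : L} (hy : y ^ d = 1) :
    y ∈ (algebraMap K L).range :=
  hK.mem_range_of_isRoot (Polynomial.X_pow_sub_C_ne_zero hd (1 : K)) (by simp [Polynomial.IsRoot, hy])

theorem isOfFinOrder_of_mem {M : Type u} [Group M] (G : Subgroup M) [Finite G] {x : M} (hx : x ∈ G) :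
    IsOfFinOrder x :=
  G.subtype.isOfFinOrder (isOfFinOrder_of_finite (⟨x, hx⟩ : G))

open CategoryTheory MonoidalCategory CartesianMonoidalCategory MonObj GrpObj AlgebraicGeometry

theorem asOver_hom (R : Type u) [CommRing R] : ((Spec (CommRingCat.of R)).asOver (Spec (CommRingCat.of R))).hom = (Spec (CommRingCat.of R) ↘ Spec (CommRingCat.of R)) := rfl

theorem over_self_eq_id (R : Type u) [CommRing R] : (Spec (CommRingCat.of R) ↘ Spec (CommRingCat.of R)) = 𝟙 (Spec (CommRingCat.of R)) := by
  rw [specOverSpec_over]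
  exact (congrArg Spec.map (CommRingCat.hom_ext (RingHom.ext fun x => rfl))).trans (Spec.map_id _)

theorem tensorUnit_hom (R : Type u) [CommRing R] : (𝟙 (Spec (CommRingCat.of R))) = (𝟙_ (Over (Spec (CommRingCat.of R)))).hom := rfl

/-- The affine base, as the terminal object. -/
noncomputable def selfToUnit (R : Type u) [CommRing R] : (Spec (CommRingCat.of R)).asOver (Spec (CommRingCat.of R)) ⟶ 𝟙_ (Over (Spec (CommRingCat.of R))) :=
  Over.homMk ((Spec (CommRingCat.of R)).asOver (Spec (CommRingCat.of R))).hom (by rw [← tensorUnit_hom]; exact Category.comp_id _)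

theorem asOver_hom_eq_id (R : Type u) [CommRing R] : ((Spec (CommRingCat.of R)).asOver (Spec (CommRingCat.of R))).hom = 𝟙 (Spec (CommRingCat.of R)) := by
  rw [asOver_hom, over_self_eq_id]

/-- The terminal object, as the affine base. -/
noncomputable def unitToSelf (R : Type u) [CommRing R] : 𝟙_ (Over (Spec (CommRingCat.of R))) ⟶ (Spec (CommRingCat.of R)).asOver (Spec (CommRingCat.of R)) :=
  Over.homMk (𝟙 (Spec (CommRingCat.of R))) (by rw [asOver_hom_eq_id]; exact Category.comp_id _)

theorem selfToUnit_unitToSelf (R : Type u) [CommRing R] : selfToUnit R ≫ unitToSelf R = 𝟙 _ := by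
  apply Over.OverMorphism.ext
  rw [Over.comp_left, Over.id_left]
  exact (Category.comp_id ((Spec (CommRingCat.of R)).asOver (Spec (CommRingCat.of R))).hom).trans (asOver_hom_eq_id R)

theorem unitToSelf_selfToUnit (R : Type u) [CommRing R] : unitToSelf R ≫ selfToUnit R = 𝟙 _ := toUnit_unique _ _

/-- Rational points as algebra maps. -/
noncomputable def ratPts {T : Over (Spec (CommRingCat.of K))} [GrpObj T] {A : Type u} [CommRing A] [HopfAlgebra K A]
    (e : (Spec (CommRingCat.of A)).asOver (Spec (CommRingCat.of K)) ≅ T) [IsMonHom e.hom] :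
    (𝟙_ (Over (Spec (CommRingCat.of K))) ⟶ T) ≃* WithConv (A →ₐ[K] K) :=
  let u : (Spec (CommRingCat.of K)).asOver (Spec (CommRingCat.of K)) ≅ 𝟙_ (Over (Spec (CommRingCat.of K))) :=
    ⟨selfToUnit K, unitToSelf K, selfToUnit_unitToSelf K, unitToSelf_selfToUnit K⟩
  MulEquiv.trans
    { toFun := fun x => u.hom ≫ x
      invFun := fun y => u.inv ≫ y
      left_inv := fun x => by simp
      right_inv := fun y => by simp
      map_mul' := fun x y => MonObj.comp_mul _ _ _ }
    (pts e K).symm

theorem exists_torus_data {n : ℕ} (T : Over (Spec (CommRingCat.of K))) [GrpObj T]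
    (hT : ∃ (L : Type u) (_ : Field L) (_ : Algebra K L),
      Red.IsSplitTorusWith (Fin n → ℤ) (Red.bc (Spec.map (CommRingCat.ofHom (algebraMap K L))) T)) :
    ∃ (A : Type u) (_ : CommRing A) (_ : HopfAlgebra K A) (P : GalSplit K A n)
      (_ : (𝟙_ (Over (Spec (CommRingCat.of K))) ⟶ T) ≃* WithConv (A →ₐ[K] K)),
      ¬ P.Aniso → ∃ i : Red.Gm (Spec (CommRingCat.of K)) ⟶ T, IsMonHom i ∧ Mono i := by
  obtain ⟨A, _, _, e, he, ⟨P⟩⟩ := exists_galSplit T hT
  haveI := he
  refine ⟨A, inferInstance, inferInstance, P, ratPts e, fun h => ?_⟩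
  simp only [GalSplit.Aniso, not_forall] at h
  obtain ⟨ψ, hψ, h0⟩ := h
  exact exists_mono_Gm e P ψ h0 hψ

end Groth.Agent.H02CA.Tori
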