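import Groth.Agent.H02CA.Tori.Chart

/-!
A torus over a field is split by a finite Galois extension.
-/

set_option autoImplicit false
set_option linter.style.haveILetI false
set_option backward.isDefEq.respectTransparency false

universe u

open CategoryTheory MonoidalCategory CartesianMonoidalCategory MonObj GrpObj AlgebraicGeometry
open TensorProduct

namespace Groth.Agent.H02CA.Tori

variable {K : Type u} [Field K] {A : Type u} [CommRing A] [HopfAlgebra K A]

theorem finiteType_of_chart {L : Type u} [Field L] [Algebra K L] {N : Type u} [CommGroup N] [Group.FG N]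
    (e : (L ⊗[K] A) ≃ₐc[L] MonoidAlgebra L N) : Algebra.FiniteType K A := by
  haveI : Monoid.FG N := Group.fg_iff_monoid_fg.mp inferInstance
  haveI : Algebra.FiniteType L (L ⊗[K] A) :=
    (inferInstance : Algebra.FiniteType L (MonoidAlgebra L N)).equiv e.toAlgEquiv.symm
  exact Algebra.FiniteType.of_finiteType_tensorProduct_of_faithfullyFlat L

theorem isMultType_of_chart {L : Type u} [Field L] [Algebra K L] {N : Type u} [CommGroup N]
    (e : (L ⊗[K] A) ≃ₐc[L] MonoidAlgebra L N) : SGA3b.IsMultType K A := by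
  refine ⟨{1}, Ideal.span_singleton_one, fun g hg => ?_⟩
  rw [Set.mem_singleton_iff] at hg
  subst hg
  let S := Localization.Away (1 : K)
  let T := S ⊗[K] L
  letI : Algebra L T := Algebra.TensorProduct.rightAlgebra
  obtain ⟨eT⟩ := H19Mult.isDiag_baseChange e T
  exact ⟨T, inferInstance, inferInstance, inferInstance, N, inferInstance,
    ⟨(H19Mult.cancelEquiv (R := K) (A := A) S T).trans eT⟩⟩

/-- Two charts over fields have isomorphic character groups. -/
theorem nonempty_mulEquiv {L L' : Type u} [Field L] [Algebra K L] [Field L'] [Algebra K L']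
    [Algebra.IsAlgebraic K L'] {N N' : Type u} [CommGroup N] [CommGroup N']
    (e : (L ⊗[K] A) ≃ₐc[L] MonoidAlgebra L N) (e' : (L' ⊗[K] A) ≃ₐc[L'] MonoidAlgebra L' N') :
    Nonempty (N ≃* N') := by
  let Ω := AlgebraicClosure L
  let emb : L' →ₐ[K] Ω := IsAlgClosed.lift
  letI : Algebra L' Ω := emb.toRingHom.toAlgebra
  haveI : IsScalarTower K L' Ω := IsScalarTower.of_algebraMap_eq fun r => (emb.commutes r).symm
  obtain ⟨f⟩ := H19Mult.isDiag_baseChange e Ω
  obtain ⟨f'⟩ := H19Mult.isDiag_baseChange e' Ω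
  let g := f.symm.trans f'
  let φ := MonoidAlgebra.mapDomainOfBialgHom (g : MonoidAlgebra Ω N →ₐc[Ω] MonoidAlgebra Ω N')
  let φ' := MonoidAlgebra.mapDomainOfBialgHom (g.symm : MonoidAlgebra Ω N' →ₐc[Ω] MonoidAlgebra Ω N)
  refine ⟨MonoidHom.toMulEquiv φ φ' (MonoidHom.ext fun m => ?_) (MonoidHom.ext fun m => ?_)⟩
  · refine MonoidAlgebra.single_left_injective (R := Ω) one_ne_zero ?_
    simp [φ, φ', MonoidAlgebra.single_mapDomainOfBialgHom]
  · refine MonoidAlgebra.single_left_injective (R := Ω) one_ne_zero ?_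
    simp [φ, φ', MonoidAlgebra.single_mapDomainOfBialgHom]

/-- A torus over a field, as a Hopf algebra split by a finite Galois extension. -/
structure GalSplit (K : Type u) [Field K] (A : Type u) [CommRing A] [HopfAlgebra K A] (n : ℕ) where
  L : Type u
  [field : Field L]
  [alg : Algebra K L]
  [fin : FiniteDimensional K L]
  [gal : IsGalois K L]
  chart : (L ⊗[K] A) ≃ₐc[L] MonoidAlgebra L (Multiplicative (Fin n → ℤ))

attribute [instance] GalSplit.field GalSplit.alg GalSplit.fin GalSplit.gal

theorem nonempty_galSplit {L : Type u} [Field L] [Algebra K L] (n : ℕ)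
    (e : (L ⊗[K] A) ≃ₐc[L] MonoidAlgebra L (Multiplicative (Fin n → ℤ))) : Nonempty (GalSplit K A n) := by
  let N := Multiplicative (ULift.{u} (Fin n → ℤ))
  let ue : Multiplicative (Fin n → ℤ) ≃* N := AddEquiv.toMultiplicative AddEquiv.ulift.symm
  haveI : Group.FG N := Group.fg_of_surjective (f := ue.toMonoidHom) ue.surjective
  let eN := e.trans (MonoidAlgebra.domCongrBialgEquiv L L ue)
  haveI := finiteType_of_chart eN
  obtain ⟨k', _, _, hfin, hsep, N', _, -, ⟨e'⟩⟩ :=
    H19Mult.exists_split_separable this (isMultType_of_chart eN)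
  haveI := hfin
  haveI := hsep
  let C := SeparableClosure K
  let emb : k' →ₐ[K] C := IsSepClosed.lift
  letI : Algebra k' C := emb.toRingHom.toAlgebra
  haveI : IsScalarTower K k' C := IsScalarTower.of_algebraMap_eq fun r => (emb.commutes r).symm
  let L' := IntermediateField.normalClosure K k' C
  haveI : IsGalois K L' := IsGalois.normalClosure K k' C
  obtain ⟨eL⟩ := H19Mult.isDiag_baseChange e' (L' : Type u)
  obtain ⟨q⟩ := nonempty_mulEquiv eN eL
  exact ⟨{ L := L', chart := eL.trans (MonoidAlgebra.domCongrBialgEquiv L' L' (q.symm.trans ue.symm)) }⟩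

theorem exists_galSplit {n : ℕ} (T : Over (Spec (CommRingCat.of K))) [GrpObj T]
    (hT : ∃ (L : Type u) (_ : Field L) (_ : Algebra K L),
      Red.IsSplitTorusWith (Fin n → ℤ) (Red.bc (Spec.map (CommRingCat.ofHom (algebraMap K L))) T)) :
    ∃ (A : Type u) (_ : CommRing A) (_ : HopfAlgebra K A)
      (e : (Spec (CommRingCat.of A)).asOver (Spec (CommRingCat.of K)) ≅ T),
      IsMonHom e.hom ∧ Nonempty (GalSplit K A n) := by
  obtain ⟨L, _, _, h⟩ := hT
  haveI := isAffine_of_split T h
  obtain ⟨A, _, _, e, he⟩ := exists_hopf T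
  haveI := he
  obtain ⟨e₀⟩ := h
  obtain ⟨c⟩ := exists_chart e (H21Diag.Pres.ofChart e₀ (𝟙 _) (algebraMap K L) (Category.id_comp _))
  exact ⟨A, inferInstance, inferInstance, e, he, nonempty_galSplit n c⟩

end Groth.Agent.H02CA.Tori
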